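import Mathlib
import Cfsg.Agent.S0713
import Cfsg.Agent.SporadicA.TwoPointStab
import Cfsg.Agent.H357.PermOrd
import Cfsg.Agent.H357.NT
import Cfsg.Agent.H160.PD.Crit
import Cfsg.Agent.S2119
import Cfsg.Agent.H570.AltBad
import Cfsg.Agent.H365.NseAlt
import Cfsg.Agent.Prune
set_option linter.all false

section
prune_inst 0x7ffffff9ffb8fddfffff7e7ffffddffffbfeffffffdffbfbffedfbffefdfeb777bf5fbafffefd8ffbed7feb632fc7bd7ffffffffefffdc7ffffd5ff47fffffdfffffbfbf5df7bb7e1ffe7ffffbffffbfffffffffffffffffffffffffffffffffffffffffffff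

-- part: H528/PDAlt/Large
section
prune_inst 0x40004022000000000000000000000000000000000000000000000108000080000001000000020000100010000000000000000000000020003000000200000000002000000000000000000000000000000000000000000000000000000000000000000
set_option linter.all false
open scoped Cfsg.Agent.FastGrp

-- part: H528/PDAlt/Big
section
/-!
# Permutation groups with a cycle of prime length more than half of the degree (helper528)
-/

set_option autoImplicit false

namespace Cfsg.Agent.H528.PDAlt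

open Equiv Equiv.Perm MulAction Subgroup SubMulAction

section trans

variable {Δ : Type*} [Fintype Δ] [DecidableEq Δ]

theorem isCycle_of {c : Perm Δ} {r : ℕ} (hr : r.Prime) (hbig : Fintype.card Δ < 2 * r) (ho : orderOf c = r) :
    c.IsCycle ∧ c.support.card = r := by
  have h1 : c.IsCycle := isCycle_of_prime_order' (ho ▸ hr) (by rw [ho]; exact hbig)
  exact ⟨h1, by rw [← h1.orderOf, ho]⟩

theorem prim_of_big (Y : Subgroup (Perm Δ)) [IsPretransitive Y Δ] {r : ℕ} (hr : r.Prime)
    (hbig : Fintype.card Δ < 2 * r) {c : Perm Δ} (hc : c ∈ Y) (ho : orderOf c = r) : IsPreprimitive Y Δ := by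
  obtain ⟨hcy, hcs⟩ := isCycle_of hr hbig ho
  have h1 := isPretransitive_of_isCycle_mem hcy hc
  have hcard : Nat.card (ofFixingSubgroup Y ((c.support : Set Δ)ᶜ)) = r := by
    have e : ((ofFixingSubgroup Y ((c.support : Set Δ)ᶜ) : SubMulAction _ Δ) : Set Δ) = (c.support : Set Δ) := by
      ext x
      rw [SetLike.mem_coe, SubMulAction.mem_ofFixingSubgroup_iff, Set.mem_compl_iff, not_not]
    change Nat.card ((ofFixingSubgroup Y ((c.support : Set Δ)ᶜ) : SubMulAction _ Δ) : Set Δ) = r
    rw [e, Nat.card_coe_set_eq, Set.ncard_coe_finset, hcs]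
  have h2 : IsPreprimitive (fixingSubgroup Y ((c.support : Set Δ)ᶜ)) (ofFixingSubgroup Y ((c.support : Set Δ)ᶜ)) := by
    apply IsPreprimitive.of_prime_card
    rw [hcard]
    exact hr
  let f : (ofFixingSubgroup Y ((c.support : Set Δ)ᶜ)) →ₑ[(fixingSubgroup Y ((c.support : Set Δ)ᶜ)).subtype] Δ :=
    { toFun := fun x => x.1
      map_smul' := fun g x => rfl }
  apply IsPreprimitive.of_card_lt (f := f)
  have h3 : (Set.range f).ncard = r := by
    have hinj : Function.Injective f := Subtype.val_injective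
    rw [← hcard, ← Set.image_univ, Set.ncard_image_of_injective _ hinj, Set.ncard_univ]
  rw [h3, Nat.card_eq_fintype_card]
  exact hbig

theorem two_trans_of_big (Y : Subgroup (Perm Δ)) [IsPretransitive Y Δ] {r : ℕ} (hr : r.Prime)
    (hbig : Fintype.card Δ < 2 * r) (hlt : r < Fintype.card Δ) {c : Perm Δ} (hc : c ∈ Y) (ho : orderOf c = r) :
    IsMultiplyPretransitive Y Δ 2 := by
  obtain ⟨hcy, hcs⟩ := isCycle_of hr hbig ho
  have hp := prim_of_big Y hr hbig hc ho
  have h1 := isPretransitive_of_isCycle_mem hcy hc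
  have h2 : ((c.support : Set Δ)ᶜ).ncard + r = Fintype.card Δ := by
    rw [← hcs, ← Set.ncard_coe_finset, add_comm, Set.ncard_add_ncard_compl, Nat.card_eq_fintype_card]
  have h3 := hr.two_le
  exact hp.is_two_pretransitive (s := ((c.support : Set Δ)ᶜ)) (n := Fintype.card Δ - r - 1) (by omega)
    (by rw [Nat.card_eq_fintype_card]; omega) h1

theorem dvd_of_big (Y : Subgroup (Perm Δ)) [IsPretransitive Y Δ] {r : ℕ} (hr : r.Prime)
    (hbig : Fintype.card Δ < 2 * r) (hlt : r < Fintype.card Δ) {c : Perm Δ} (hc : c ∈ Y) (ho : orderOf c = r) :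
    Fintype.card Δ * (Fintype.card Δ - 1) ∣ Nat.card Y := by
  have h1 := two_trans_of_big Y hr hbig hlt hc ho
  have h2 := hr.two_le
  have h3 : 1 < Fintype.card Δ := by omega
  obtain ⟨p, q, hpq⟩ := Fintype.one_lt_card_iff.1 h3
  have h4 := Cfsg.Agent.SporadicA.TwoPointStab.card_two_stab_mul h1 hpq
  rw [Nat.card_eq_fintype_card (α := Δ)] at h4
  obtain ⟨m, hm⟩ : ∃ m, Fintype.card Δ = m + 2 := ⟨Fintype.card Δ - 2, by omega⟩
  rw [hm, Nat.add_sub_cancel, show (m + 2).factorial = ((m + 2) * (m + 1)) * m.factorial from by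
    rw [Nat.factorial_succ, Nat.factorial_succ, mul_assoc], ← mul_assoc] at h4
  have h5 := Nat.eq_of_mul_eq_mul_right (Nat.factorial_pos m) h4
  rw [hm, ← h5]
  exact Dvd.intro_left _ rfl

theorem factorial_dvd_of_big (Y : Subgroup (Perm Δ)) [IsPretransitive Y Δ] {r : ℕ} (hr : r.Prime)
    (hbig : Fintype.card Δ < 2 * r) (hlt : r + 3 ≤ Fintype.card Δ) {c : Perm Δ} (hc : c ∈ Y) (ho : orderOf c = r) :
    (Fintype.card Δ).factorial ∣ 2 * Nat.card Y := by
  obtain ⟨hcy, hcs⟩ := isCycle_of hr hbig ho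
  have hp := prim_of_big Y hr hbig hc ho
  have h2 := hr.two_le
  have h1 := Cfsg.Agent.S0713.result Y hp hr (by omega) hlt hcy hcs hc
  have : Nontrivial Δ := Fintype.one_lt_card_iff_nontrivial.1 (by omega)
  have h3 := two_mul_nat_card_alternatingGroup (α := Δ)
  rw [Nat.card_perm, Nat.card_eq_fintype_card (α := Δ)] at h3
  rw [← h3]
  exact Nat.mul_dvd_mul_left 2 (card_dvd_of_le h1)

end trans

section orbit

variable {α : Type*}

/-- the group induced on an orbit -/
def ind (X : Subgroup (Perm α)) (a : α) : Subgroup (Perm (orbit X a)) := (toPermHom X (orbit X a)).range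

theorem ind_trans (X : Subgroup (Perm α)) (a : α) : IsPretransitive (ind X a) (orbit X a) := by
  refine ⟨fun x y => ?_⟩
  obtain ⟨g, hg⟩ := _root_.MulAction.exists_smul_eq X x y
  exact ⟨⟨toPermHom X (orbit X a) g, g, rfl⟩, hg⟩

theorem card_ind_dvd (X : Subgroup (Perm α)) (a : α) : Nat.card (ind X a) ∣ Nat.card X :=
  Subgroup.card_range_dvd _

theorem exists_ind (X : Subgroup (Perm α)) {a : α} {c : Perm α} (hc : c ∈ X) {r : ℕ} (hr : r.Prime)
    (ho : orderOf c = r) (ha : c a ≠ a) : ∃ d ∈ ind X a, orderOf d = r := by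
  have := Fact.mk hr
  refine ⟨toPermHom X (orbit X a) ⟨c, hc⟩, ⟨_, rfl⟩, ?_⟩
  apply orderOf_eq_prime
  · rw [← map_pow]
    have : (⟨c, hc⟩ : X) ^ r = 1 := by
      apply Subtype.ext
      rw [SubmonoidClass.coe_pow, ← ho]
      exact pow_orderOf_eq_one c
    rw [this, map_one]
  · intro h
    apply ha
    have h1 := congrArg (fun f : Perm (orbit X a) => (f ⟨a, mem_orbit_self a⟩ : orbit X a)) h
    exact congrArg Subtype.val h1

variable [Fintype α]

theorem card_orbit_le (X : Subgroup (Perm α)) (a : α) : Nat.card (orbit X a) ≤ Fintype.card α := by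
  rw [← Nat.card_eq_fintype_card]
  exact Nat.card_le_card_of_injective _ Subtype.val_injective

/-- two big primes -/
theorem two_big [DecidableEq α] (X : Subgroup (Perm α)) {r s : ℕ} (hr : r.Prime) (hs : s.Prime) (hrs : r < s)
    (hbig : Fintype.card α < 2 * r) (h1 : r ∣ Nat.card X) (h2 : s ∣ Nat.card X) :
    ∃ m, s ≤ m ∧ m * (m - 1) ∣ Nat.card X ∧ (r + 3 ≤ m → m.factorial ∣ 2 * Nat.card X) := by
  classical
  have := Fact.mk hr
  have := Fact.mk hs
  obtain ⟨⟨c, hc⟩, hco⟩ := exists_prime_orderOf_dvd_card' r h1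
  obtain ⟨⟨d, hd⟩, hdo⟩ := exists_prime_orderOf_dvd_card' s h2
  rw [Subgroup.orderOf_mk] at hco hdo
  obtain ⟨_, hcs⟩ := isCycle_of hr hbig hco
  obtain ⟨_, hds⟩ := isCycle_of hs (by omega) hdo
  obtain ⟨a, ha⟩ : ∃ a, a ∈ c.support ∩ d.support := by
    by_contra h0
    rw [not_exists, ← Finset.eq_empty_iff_forall_notMem] at h0
    have h3 := Finset.card_union_add_card_inter c.support d.support
    rw [h0, Finset.card_empty, hcs, hds] at h3
    have h4 := (c.support ∪ d.support).card_le_univ
    omega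
  rw [Finset.mem_inter, Perm.mem_support, Perm.mem_support] at ha
  obtain ⟨c', hc', hco'⟩ := exists_ind X hc hr hco ha.1
  obtain ⟨d', hd', hdo'⟩ := exists_ind X hd hs hdo ha.2
  have hfin : Fintype (orbit X a) := Fintype.ofFinite _
  have htr := ind_trans X a
  have hle := card_orbit_le X a
  rw [Nat.card_eq_fintype_card] at hle
  have hbig' : Fintype.card (orbit X a) < 2 * s := by omega
  obtain ⟨_, hds'⟩ := isCycle_of hs hbig' hdo'
  have hge : s ≤ Fintype.card (orbit X a) := by
    rw [← hds']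
    exact d'.support.card_le_univ
  refine ⟨Fintype.card (orbit X a), hge, ?_, fun h3 => ?_⟩
  · exact (dvd_of_big (ind X a) hr (by omega) (by omega) hc' hco').trans (card_ind_dvd X a)
  · exact (factorial_dvd_of_big (ind X a) hr (by omega) h3 hc' hco').trans
      (Nat.mul_dvd_mul_left 2 (card_ind_dvd X a))

/-- one big prime -/
theorem one_big [DecidableEq α] (X : Subgroup (Perm α)) {s : ℕ} (hs : s.Prime)
    (hbig : Fintype.card α < 2 * s) (h2 : s ∣ Nat.card X) :
    2 ∣ Nat.card X ∨ Nat.card X ∣ s.factorial * (Fintype.card α - s).factorial := by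
  classical
  have := Fact.mk hs
  obtain ⟨⟨d, hd⟩, hdo⟩ := exists_prime_orderOf_dvd_card' s h2
  rw [Subgroup.orderOf_mk] at hdo
  obtain ⟨_, hds⟩ := isCycle_of hs (by omega) hdo
  obtain ⟨a, ha⟩ : ∃ a, a ∈ d.support := by
    apply Finset.card_pos.1
    rw [hds]
    exact hs.pos
  rw [Perm.mem_support] at ha
  obtain ⟨d', hd', hdo'⟩ := exists_ind X hd hs hdo ha
  have hfin : Fintype (orbit X a) := Fintype.ofFinite _
  have htr := ind_trans X a
  have hle := card_orbit_le X a
  rw [Nat.card_eq_fintype_card] at hle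
  have hbig' : Fintype.card (orbit X a) < 2 * s := by omega
  obtain ⟨_, hds'⟩ := isCycle_of hs hbig' hdo'
  have hge : s ≤ Fintype.card (orbit X a) := by
    rw [← hds']
    exact d'.support.card_le_univ
  rcases hge.lt_or_eq with hlt | heq
  · left
    have h3 := (dvd_of_big (ind X a) hs (by omega) hlt hd' hdo').trans (card_ind_dvd X a)
    refine Dvd.dvd.trans ?_ h3
    have h4 := Nat.even_mul_pred_self (Fintype.card (orbit X a))
    exact even_iff_two_dvd.1 h4
  · right
    have hinv : ∀ x ∈ X, ∀ b, x b ∈ orbit X a ↔ b ∈ orbit X a := by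
      intro x hx b
      constructor
      · intro h
        have h1 := mem_orbit_of_mem_orbit (⟨x, hx⟩⁻¹ : X) h
        have h2 : (⟨x, hx⟩⁻¹ : X) • x b = b := by
          change x⁻¹ (x b) = b
          simp
        rwa [h2] at h1
      · exact fun h => mem_orbit_of_mem_orbit (⟨x, hx⟩ : X) h
    have hle2 : X ≤ (subtypeCongrHom (fun b => b ∈ orbit X a)).range := by
      intro x hx
      refine ⟨⟨x.subtypePerm (hinv x hx), x.subtypePerm (fun b => not_congr (hinv x hx b))⟩, ?_⟩
      ext b
      by_cases hb : b ∈ orbit X a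
      · exact Perm.subtypeCongr.left_apply _ _ hb
      · exact Perm.subtypeCongr.right_apply _ _ hb
    have h3 := card_dvd_of_le hle2
    rw [← Nat.card_congr (MonoidHom.ofInjective (subtypeCongrHom_injective (fun b => b ∈ orbit X a))).toEquiv,
      Nat.card_prod, Nat.card_perm, Nat.card_perm] at h3
    have h4 : Nat.card {b // b ∈ orbit X a} = s := by
      rw [heq, ← Nat.card_eq_fintype_card]
    have h5 : Nat.card {b // ¬ b ∈ orbit X a} = Fintype.card α - s := by
      have h6 := Fintype.card_subtype_compl (fun b => b ∈ orbit X a)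
      rw [Nat.card_eq_fintype_card, h6, ← h4, Nat.card_eq_fintype_card]
    rwa [h4, h5] at h3

end orbit

end Cfsg.Agent.H528.PDAlt
end

-- part: H528/PDAlt/Cent
section
/-!
# Centralisers of elements of prime order in symmetric groups (helper528)
-/

set_option autoImplicit false

namespace Cfsg.Agent.H528.PDAlt

open Equiv Equiv.Perm Subgroup Nat

section cent

variable {α : Type*} [Fintype α] [DecidableEq α]

theorem card_cent {x : Perm α} {t : ℕ} (ht : t.Prime) (ho : orderOf x = t) :
    ∃ k, 1 ≤ k ∧ x.support.card = k * t ∧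
      Nat.card (centralizer ({x} : Set (Perm α))) = (Fintype.card α - k * t)! * t ^ k * k ! := by
  obtain ⟨k, hk⟩ := cycleType_prime_order (σ := x) (by rw [ho]; exact ht)
  rw [ho] at hk
  refine ⟨k + 1, by omega, ?_, ?_⟩
  · rw [← x.sum_cycleType, hk, Multiset.sum_replicate, smul_eq_mul]
  · rw [Equiv.Perm.nat_card_centralizer, hk, Multiset.sum_replicate, smul_eq_mul, Multiset.prod_replicate,
      Multiset.toFinset_replicate, if_neg (by omega), Finset.prod_singleton, Multiset.count_replicate_self]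

/-- an odd permutation in a subgroup -/
theorem two_mul_inf (H : Subgroup (Perm α)) {σ : Perm α} (hσ : σ ∈ H) (hs : sign σ = -1) :
    2 * Nat.card ↥(H ⊓ alternatingGroup α) = Nat.card H := by
  have hf : Function.Surjective (sign.comp H.subtype : H →* ℤˣ) := by
    intro u
    rcases Int.units_eq_one_or u with rfl | rfl
    · exact ⟨1, map_one _⟩
    · exact ⟨⟨σ, hσ⟩, hs⟩
  have h1 := (sign.comp H.subtype : H →* ℤˣ).ker.card_mul_index
  rw [Subgroup.index_ker, MonoidHom.range_eq_top.2 hf, Subgroup.card_top] at h1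
  have h2 : Nat.card ℤˣ = 2 := by rw [Nat.card_eq_fintype_card]; rfl
  rw [h2, mul_comm] at h1
  rw [← h1]
  congr 1
  have h3 : ((sign.comp H.subtype : H →* ℤˣ).ker).map H.subtype = H ⊓ alternatingGroup α := by
    ext y
    rw [Subgroup.mem_map, Subgroup.mem_inf]
    constructor
    · rintro ⟨y, hy, rfl⟩
      exact ⟨y.2, hy⟩
    · rintro ⟨hy, hy2⟩
      exact ⟨⟨y, hy⟩, hy2, rfl⟩
  rw [← h3]
  exact (Nat.card_congr (((sign.comp H.subtype : H →* ℤˣ).ker).equivMapOfInjective _
    H.subtype_injective).toEquiv).symm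

/-- the basic estimate -/
theorem cent_bound {x : Perm α} {t : ℕ} (ht : t.Prime) (ho : orderOf x = t) {H : Subgroup (Perm α)}
    (hH : ∀ y ∈ H, y * x = x * y) :
    ∃ k, 1 ≤ k ∧ k * t ≤ Fintype.card α ∧
      (∀ r, r.Prime → r ≠ t → (Nat.card H).factorization r ≤
        ((Fintype.card α - k * t)!).factorization r + (k !).factorization r) ∧
      (¬ t ∣ Nat.card H → Nat.card H ∣ (Fintype.card α - k * t)! * k !) ∧
      (k * t + 2 ≤ Fintype.card α → t ≠ 2 → (Nat.card ↥(H ⊓ alternatingGroup α)).factorization 2 + 1 ≤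
        ((Fintype.card α - k * t)!).factorization 2 + (k !).factorization 2) := by
  obtain ⟨k, hk1, hks, hkc⟩ := card_cent ht ho
  have hle : H ≤ centralizer ({x} : Set (Perm α)) := fun y hy => mem_centralizer_singleton_iff.2 (hH y hy)
  have h1 := card_dvd_of_le hle
  rw [hkc] at h1
  have ha : (Fintype.card α - k * t)! ≠ 0 := Nat.factorial_ne_zero _
  have hb : k ! ≠ 0 := Nat.factorial_ne_zero _
  have hc : t ^ k ≠ 0 := pow_ne_zero _ ht.ne_zero
  have hfac : ∀ r, r ≠ t → ((Fintype.card α - k * t)! * t ^ k * k !).factorization r =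
      ((Fintype.card α - k * t)!).factorization r + (k !).factorization r := by
    intro r hrt
    rw [Nat.factorization_mul (mul_ne_zero ha hc) hb, Nat.factorization_mul ha hc, Finsupp.add_apply,
      Finsupp.add_apply, Nat.Prime.factorization_pow ht, Finsupp.single_apply, if_neg hrt.symm, add_zero]
  refine ⟨k, hk1, ?_, ?_, ?_, ?_⟩
  · rw [← hks]
    exact x.support.card_le_univ
  · intro r hr hrt
    rw [← hfac r hrt]
    exact (Nat.factorization_le_iff_dvd Nat.card_pos.ne' (mul_ne_zero (mul_ne_zero ha hc) hb)).2 h1 r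
  · intro hnd
    have h2 : (Nat.card H).Coprime (t ^ k) := (((Nat.Prime.coprime_iff_not_dvd ht).2 hnd).pow_left k).symm
    rw [mul_right_comm] at h1
    exact h2.dvd_of_dvd_mul_right h1
  · intro hk2 ht2
    have h3 : 1 < (Finset.univ \ x.support).card := by
      rw [Finset.card_sdiff_of_subset (Finset.subset_univ _), hks, Finset.card_univ]
      omega
    obtain ⟨u, hu, w, hw, huw⟩ := Finset.one_lt_card.1 h3
    rw [Finset.mem_sdiff, Perm.mem_support, not_not] at hu hw
    have hsw : swap u w ∈ centralizer ({x} : Set (Perm α)) := by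
      rw [mem_centralizer_singleton_iff]
      have h4 := Equiv.mul_swap_eq_swap_mul x u w
      rw [hu.2, hw.2] at h4
      exact h4.symm
    have h5 := two_mul_inf _ hsw (Perm.sign_swap huw)
    have h6 : H ⊓ alternatingGroup α ≤ centralizer ({x} : Set (Perm α)) ⊓ alternatingGroup α :=
      inf_le_inf_right _ hle
    have h7 := Nat.mul_dvd_mul_left 2 (card_dvd_of_le h6)
    rw [h5, hkc] at h7
    have h8 := (Nat.factorization_le_iff_dvd (mul_ne_zero two_ne_zero Nat.card_pos.ne')
      (mul_ne_zero (mul_ne_zero ha hc) hb)).2 h7 2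
    rw [hfac 2 ht2.symm, Nat.factorization_mul two_ne_zero Nat.card_pos.ne', Finsupp.add_apply,
      Nat.Prime.factorization_self Nat.prime_two] at h8
    omega

end cent

end Cfsg.Agent.H528.PDAlt
end

-- part: H528/PDAlt/Conf
section
/-!
# The configurations in symmetric groups (helper528)
-/

set_option autoImplicit false

namespace Cfsg.Agent.H528.PDAlt

open Equiv Equiv.Perm Subgroup Nat

/-- a configuration in `S_n` -/
structure PC (n : ℕ) (π : Set ℕ) (L K L' K' : Subgroup (Perm (Fin n))) : Prop where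
  two : 2 ∉ π
  piL : ∀ r, r.Prime → r ∣ Nat.card L → r ∈ π
  piL' : ∀ r, r.Prime → r ∣ Nat.card L' → r ∈ π
  piK : ∀ r, r.Prime → r ∣ Nat.card K → r ∉ π
  piK' : ∀ r, r.Prime → r ∣ Nat.card K' → r ∉ π
  comm : ∀ a ∈ L, ∀ b ∈ K, a * b = b * a
  comm' : ∀ a ∈ L', ∀ b ∈ K', a * b = b * a
  ne : L ≠ ⊥
  ne' : L' ≠ ⊥
  numL : ∀ r, r.Prime → r ∈ π → (n !).factorization r ≤ (Nat.card L).factorization r + (Nat.card L').factorization r
  numK : ∀ r, r.Prime → r ≠ 2 → r ∉ π →
    (n !).factorization r ≤ (Nat.card K).factorization r + (Nat.card K').factorization r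
  two1 : (n !).factorization 2 ≤
    (Nat.card K).factorization 2 + (Nat.card ↥(K' ⊓ alternatingGroup (Fin n))).factorization 2 + 1
  two2 : (n !).factorization 2 ≤
    (Nat.card K').factorization 2 + (Nat.card ↥(K ⊓ alternatingGroup (Fin n))).factorization 2 + 1

theorem fact_pos_iff {m r : ℕ} (hr : r.Prime) (hm : m ≠ 0) : 1 ≤ m.factorization r ↔ r ∣ m :=
  (hr.dvd_iff_one_le_factorization hm).symm

theorem fact_le {a b r : ℕ} (hb : b ≠ 0) (h : a ∣ b) : a.factorization r ≤ b.factorization r := by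
  have ha : a ≠ 0 := fun h0 => hb (Nat.eq_zero_of_zero_dvd (h0 ▸ h))
  exact (Nat.factorization_le_iff_dvd ha hb).2 h r

theorem inf_le_card {n : ℕ} (H : Subgroup (Perm (Fin n))) (r : ℕ) :
    (Nat.card ↥(H ⊓ alternatingGroup (Fin n))).factorization r ≤ (Nat.card H).factorization r :=
  fact_le Nat.card_pos.ne' (card_dvd_of_le inf_le_left)

theorem exists_order {G : Type*} [Group G] [Finite G] {H : Subgroup G} {r : ℕ} (hr : r.Prime)
    (h : r ∣ Nat.card H) : ∃ x ∈ H, orderOf x = r := by
  have := Fact.mk hr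
  obtain ⟨⟨x, hx⟩, hxo⟩ := exists_prime_orderOf_dvd_card' r h
  exact ⟨x, hx, by rw [← hxo, Subgroup.orderOf_mk]⟩

theorem order_dvd {G : Type*} [Group G] {H : Subgroup G} {x : G} (hx : x ∈ H) : orderOf x ∣ Nat.card H := by
  have := _root_.orderOf_dvd_natCard (⟨x, hx⟩ : H)
  rwa [Subgroup.orderOf_mk] at this

namespace PC

variable {n : ℕ} {π : Set ℕ} {L K L' K' : Subgroup (Perm (Fin n))}

theorem symm (h : PC n π L K L' K') : PC n π L' K' L K :=
  ⟨h.two, h.piL', h.piL, h.piK', h.piK, h.comm', h.comm, h.ne', h.ne,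
    fun r hr hp => by rw [add_comm]; exact h.numL r hr hp,
    fun r hr h2 hp => by rw [add_comm]; exact h.numK r hr h2 hp, h.two2, h.two1⟩

theorem odd (h : PC n π L K L' K') : ¬ 2 ∣ Nat.card L := fun h2 => h.two (h.piL 2 Nat.prime_two h2)

theorem ne_two (h : PC n π L K L' K') {t : ℕ} (ht : t ∈ π) : t ≠ 2 := fun h2 => h.two (h2 ▸ ht)

/-- a prime divides `|L|` -/
theorem exists_prime (h : PC n π L K L' K') : ∃ t, t.Prime ∧ t ∣ Nat.card L ∧ t ∈ π ∧ 3 ≤ t := by
  have h1 : Nat.card L ≠ 1 := fun h0 => h.ne (eq_bot_of_card_eq _ h0)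
  obtain ⟨t, ht, htd⟩ := Nat.exists_prime_and_dvd h1
  have h2 := h.piL t ht htd
  have h3 := h.ne_two h2
  have h4 := ht.two_le
  exact ⟨t, ht, htd, h2, by omega⟩

/-- a prime `≤ n` divides one of the four orders -/
theorem mem_or (h : PC n π L K L' K') {r : ℕ} (hr : r.Prime) (h2 : r ≠ 2) (hrn : r ≤ n) :
    (r ∣ Nat.card L ∨ r ∣ Nat.card L') ∨ r ∣ Nat.card K ∨ r ∣ Nat.card K' := by
  have h3 : 1 ≤ (n !).factorization r :=
    (fact_pos_iff hr (Nat.factorial_ne_zero n)).2 ((hr.dvd_factorial).2 hrn)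
  by_cases hp : r ∈ π
  · left
    have h4 := h.numL r hr hp
    by_contra h5
    rw [not_or] at h5
    rw [Nat.factorization_eq_zero_of_not_dvd h5.1, Nat.factorization_eq_zero_of_not_dvd h5.2] at h4
    omega
  · right
    have h4 := h.numK r hr h2 hp
    by_contra h5
    rw [not_or] at h5
    rw [Nat.factorization_eq_zero_of_not_dvd h5.1, Nat.factorization_eq_zero_of_not_dvd h5.2] at h4
    omega

/-- `r` in `L` and `s` in `K` -/
theorem nonAdj (h : PC n π L K L' K') {r s : ℕ} (hr : r.Prime) (hs : s.Prime) (hn : n < r + s)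
    (h1 : r ∣ Nat.card L) (h2 : s ∣ Nat.card K) : False := by
  have hrs : r ≠ s := by
    rintro rfl
    exact h.piK r hr h2 (h.piL r hr h1)
  obtain ⟨x, hx, hxo⟩ := exists_order hr h1
  obtain ⟨y, hy, hyo⟩ := exists_order hs h2
  have hxy := h.comm x hx y hy
  have hco : (orderOf x).Coprime (orderOf y) := by
    rw [hxo, hyo]
    exact (Nat.coprime_primes hr hs).2 hrs
  have h3 := (show Commute x y from hxy).orderOf_mul_eq_mul_orderOf_of_coprime hco
  rw [hxo, hyo] at h3
  exact Cfsg.Agent.H357.PermOrd.nonAdj hr hs hrs hn (x * y) h3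

/-- `K` centralises an element of `L` -/
theorem cK (h : PC n π L K L' K') {t : ℕ} (ht : t.Prime) (h1 : t ∣ Nat.card L) :
    ∃ k, 1 ≤ k ∧ k * t ≤ n ∧ Nat.card K ∣ (n - k * t)! * k ! ∧
      (∀ r, (Nat.card K).factorization r ≤ ((n - k * t)!).factorization r + (k !).factorization r) ∧
      (k * t + 2 ≤ n → (Nat.card ↥(K ⊓ alternatingGroup (Fin n))).factorization 2 + 1 ≤
        ((n - k * t)!).factorization 2 + (k !).factorization 2) := by
  obtain ⟨x, hx, hxo⟩ := exists_order ht h1
  obtain ⟨k, hk1, hk2, hk3, hk4, hk5⟩ := cent_bound (H := K) ht hxo (fun y hy => (h.comm x hx y hy).symm)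
  rw [Fintype.card_fin] at *
  have hnd : ¬ t ∣ Nat.card K := fun h2 => h.piK t ht h2 (h.piL t ht h1)
  refine ⟨k, hk1, hk2, hk4 hnd, ?_, fun h2 => hk5 h2 (h.ne_two (h.piL t ht h1))⟩
  intro r
  rw [← Finsupp.add_apply, ← Nat.factorization_mul (Nat.factorial_ne_zero _) (Nat.factorial_ne_zero _)]
  exact fact_le (mul_ne_zero (Nat.factorial_ne_zero _) (Nat.factorial_ne_zero _)) (hk4 hnd)

/-- `L` centralises an element of `K` -/
theorem cL (h : PC n π L K L' K') {t : ℕ} (ht : t.Prime) (h1 : t ∣ Nat.card K) :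
    ∃ k, 1 ≤ k ∧ k * t ≤ n ∧ Nat.card L ∣ (n - k * t)! * k ! ∧
      (∀ r, (Nat.card L).factorization r ≤ ((n - k * t)!).factorization r + (k !).factorization r) := by
  obtain ⟨x, hx, hxo⟩ := exists_order ht h1
  obtain ⟨k, hk1, hk2, hk3, hk4, hk5⟩ := cent_bound (H := L) ht hxo (fun y hy => h.comm y hy x hx)
  rw [Fintype.card_fin] at *
  have hnd : ¬ t ∣ Nat.card L := fun h2 => h.piK t ht h1 (h.piL t ht h2)
  refine ⟨k, hk1, hk2, hk4 hnd, ?_⟩
  intro r
  rw [← Finsupp.add_apply, ← Nat.factorization_mul (Nat.factorial_ne_zero _) (Nat.factorial_ne_zero _)]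
  exact fact_le (mul_ne_zero (Nat.factorial_ne_zero _) (Nat.factorial_ne_zero _)) (hk4 hnd)

theorem one_of_big {k t : ℕ} (hk : 1 ≤ k) (hkt : k * t ≤ n) (hbig : n < 2 * t) : k = 1 := by
  by_contra h0
  have h1 : 2 ≤ k := by omega
  have h2 : 2 * t ≤ k * t := Nat.mul_le_mul_right t h1
  omega

theorem big_K (h : PC n π L K L' K') {t : ℕ} (ht : t.Prime) (h1 : t ∣ Nat.card L) (hbig : n < 2 * t) :
    Nat.card K ∣ (n - t)! ∧ (t + 2 ≤ n → (Nat.card ↥(K ⊓ alternatingGroup (Fin n))).factorization 2 + 1 ≤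
        ((n - t)!).factorization 2) := by
  obtain ⟨k, hk1, hk2, hk3, -, hk5⟩ := h.cK ht h1
  obtain rfl := one_of_big hk1 hk2 hbig
  rw [one_mul] at *
  rw [Nat.factorial_one, mul_one] at hk3
  refine ⟨hk3, fun h2 => ?_⟩
  have h3 := hk5 h2
  rwa [Nat.factorial_one, Nat.factorization_one, Finsupp.zero_apply, add_zero] at h3

theorem big_L (h : PC n π L K L' K') {t : ℕ} (ht : t.Prime) (h1 : t ∣ Nat.card K) (hbig : n < 2 * t) :
    Nat.card L ∣ (n - t)! := by
  obtain ⟨k, hk1, hk2, hk3, -⟩ := h.cL ht h1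
  obtain rfl := one_of_big hk1 hk2 hbig
  rw [one_mul] at *
  rwa [Nat.factorial_one, mul_one] at hk3

/-- two big primes cannot divide `|L|` -/
theorem no_two_L (h : PC n π L K L' K') {r s : ℕ} (hr : r.Prime) (hs : s.Prime) (hrs : r < s) (hbig : n < 2 * r)
    (h1 : r ∣ Nat.card L) (h2 : s ∣ Nat.card L) : False := by
  obtain ⟨m, hm1, hm2, -⟩ := two_big L hr hs hrs (by rwa [Fintype.card_fin]) h1 h2
  exact h.odd ((even_iff_two_dvd.1 (Nat.even_mul_pred_self m)).trans hm2)

/-- two big primes, not twins, cannot divide `|K|` -/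
theorem no_two_K (h : PC n π L K L' K') {r s : ℕ} (hr : r.Prime) (hs : s.Prime) (hrs : r + 3 ≤ s) (hbig : n < 2 * r)
    (h1 : r ∣ Nat.card K) (h2 : s ∣ Nat.card K) : False := by
  obtain ⟨m, hm1, -, hm2⟩ := two_big K hr hs (by omega) (by rwa [Fintype.card_fin]) h1 h2
  obtain ⟨t, ht, htd, htp, ht3⟩ := h.exists_prime
  have h3 := h.big_L hs h2 (by omega)
  have h4 : t ≤ n - s := (ht.dvd_factorial).1 (htd.trans h3)
  have h5 : t ∣ 2 * Nat.card K := ((ht.dvd_factorial).2 (by omega)).trans (hm2 (by omega))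
  rcases (ht.dvd_mul).1 h5 with h6 | h6
  · have := Nat.le_of_dvd two_pos h6
    omega
  · exact h.piK t ht h6 htp

/-- two big primes cannot divide `|K|` if `3 ∈ π` -/
theorem no_two_K3 (h : PC n π L K L' K') {r s : ℕ} (hr : r.Prime) (hs : s.Prime) (hrs : r < s) (h3 : 3 < r)
    (hbig : n < 2 * r) (h1 : r ∣ Nat.card K) (h2 : s ∣ Nat.card K) : 3 ∉ π := by
  apply h.piK 3 Nat.prime_three
  obtain ⟨m, hm1, hm2, hm3⟩ := two_big K hr hs (by omega) (by rwa [Fintype.card_fin]) h1 h2
  by_cases h4 : r + 3 ≤ m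
  · have h5 : 3 ∣ 2 * Nat.card K := ((Nat.prime_three.dvd_factorial).2 (by omega)).trans (hm3 h4)
    rcases (Nat.prime_three.dvd_mul).1 h5 with h6 | h6
    · omega
    · exact h6
  · refine Dvd.dvd.trans ?_ hm2
    have hr2 : r % 2 = 1 := Nat.odd_iff.1 (hr.odd_of_ne_two (by omega))
    have hs2 : s % 2 = 1 := Nat.odd_iff.1 (hs.odd_of_ne_two (by omega))
    have h5 : m = r + 2 ∧ s = r + 2 := by omega
    have h6 : ¬ 3 ∣ r := fun h0 => by have := (Nat.prime_dvd_prime_iff_eq Nat.prime_three hr).1 h0; (clear * - h3 this; omega)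
    have h7 : ¬ 3 ∣ s := fun h0 => by have := (Nat.prime_dvd_prime_iff_eq Nat.prime_three hs).1 h0; omega
    obtain ⟨h8, h9⟩ := h5
    have h10 : r % 3 = 2 := by
      have h11 : r % 3 = 0 ∨ r % 3 = 1 ∨ r % 3 = 2 := by (clear * - h6 h7; omega)
      rcases h11 with h11 | h11 | h11
      · exact absurd (Nat.dvd_of_mod_eq_zero h11) h6
      · exact absurd (Nat.dvd_of_mod_eq_zero (by omega)) h7
      · exact h11
    apply Dvd.dvd.mul_left
    (clear * - h8 h10; omega)

/-- two big primes, not twins, are not in the same pair -/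
theorem same (h : PC n π L K L' K') {r s : ℕ} (hr : r.Prime) (hs : s.Prime) (hrs : r + 3 ≤ s) (hbig : n < 2 * r)
    (h1 : r ∣ Nat.card L ∨ r ∣ Nat.card K) (h2 : s ∣ Nat.card L ∨ s ∣ Nat.card K) : False := by
  rcases h1 with h1 | h1 <;> rcases h2 with h2 | h2
  · exact h.no_two_L hr hs (by omega) hbig h1 h2
  · exact h.nonAdj hr hs (by omega) h1 h2
  · exact h.nonAdj hs hr (by omega) h2 h1
  · exact h.no_two_K hr hs hrs hbig h1 h2

/-- three big primes -/
theorem three (h : PC n π L K L' K') {a b c : ℕ} (ha : a.Prime) (hb : b.Prime) (hc : c.Prime) (hab : a + 3 ≤ b)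
    (hbc : b + 3 ≤ c) (hcn : c ≤ n) (hbig : n < 2 * a) (h3 : 3 ≤ a) : False := by
  have key : ∀ r, r.Prime → 3 ≤ r → r ≤ n →
      (r ∣ Nat.card L ∨ r ∣ Nat.card K) ∨ (r ∣ Nat.card L' ∨ r ∣ Nat.card K') := by
    intro r hr h2 hrn
    rcases h.mem_or hr (by omega) hrn with (h4 | h4) | h4 | h4
    · exact Or.inl (Or.inl h4)
    · exact Or.inr (Or.inl h4)
    · exact Or.inl (Or.inr h4)
    · exact Or.inr (Or.inr h4)
  rcases key a ha (by omega) (by omega) with ha' | ha' <;> rcases key b hb (by omega) (by omega) with hb' | hb'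
  · exact h.same ha hb hab hbig ha' hb'
  · rcases key c hc (by omega) hcn with hc' | hc'
    · exact h.same ha hc (by omega) hbig ha' hc'
    · exact h.symm.same hb hc hbc (by omega) hb' hc'
  · rcases key c hc (by omega) hcn with hc' | hc'
    · exact h.same hb hc hbc (by omega) hb' hc'
    · exact h.symm.same ha hc (by omega) hbig ha' hc'
  · exact h.symm.same ha hb hab hbig ha' hb'

end PC

end Cfsg.Agent.H528.PDAlt
end

-- part: H528/PDAlt/Large
section
/-!
# Configurations in `S_n`, `n ≥ 29` and `23 ≤ n ≤ 25` (helper528)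
-/

set_option autoImplicit false

namespace Cfsg.Agent.H528.PDAlt

/-- three big primes with gaps -/
def T3 (n : ℕ) : Prop :=
  ∃ a b c : ℕ, a.Prime ∧ b.Prime ∧ c.Prime ∧ a + 3 ≤ b ∧ b + 3 ≤ c ∧ c ≤ n ∧ n < 2 * a ∧ 3 ≤ a

theorem T3.of (a b c : ℕ) (ha : a.Prime) (hb : b.Prime) (hc : c.Prime) (hab : a + 3 ≤ b) (hbc : b + 3 ≤ c)
    (h3 : 3 ≤ a) {n : ℕ} (hcn : c ≤ n) (hbig : n < 2 * a) : T3 n := ⟨a, b, c, ha, hb, hc, hab, hbc, hcn, hbig, h3⟩

theorem T3.small {n : ℕ} (h1 : 29 ≤ n) (h2 : n < 106) : T3 n := by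
  by_cases h : n < 34
  · exact T3.of 17 23 29 (by norm_num) (by norm_num) (by norm_num) (by norm_num) (by norm_num) (by norm_num)
      (by omega) (by omega)
  by_cases h : n < 38
  · exact T3.of 19 23 29 (by norm_num) (by norm_num) (by norm_num) (by norm_num) (by norm_num) (by norm_num)
      (by omega) (by omega)
  by_cases h : n < 46
  · exact T3.of 23 29 37 (by norm_num) (by norm_num) (by norm_num) (by norm_num) (by norm_num) (by norm_num)
      (by omega) (by omega)
  by_cases h : n < 58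
  · exact T3.of 29 37 41 (by norm_num) (by norm_num) (by norm_num) (by norm_num) (by norm_num) (by norm_num)
      (by omega) (by omega)
  by_cases h : n < 74
  · exact T3.of 37 41 47 (by norm_num) (by norm_num) (by norm_num) (by norm_num) (by norm_num) (by norm_num)
      (by omega) (by omega)
  by_cases h : n < 82
  · exact T3.of 41 47 53 (by norm_num) (by norm_num) (by norm_num) (by norm_num) (by norm_num) (by norm_num)
      (by omega) (by omega)
  by_cases h : n < 94
  · exact T3.of 47 53 59 (by norm_num) (by norm_num) (by norm_num) (by norm_num) (by norm_num) (by norm_num)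
      (by omega) (by omega)
  · exact T3.of 53 59 67 (by norm_num) (by norm_num) (by norm_num) (by norm_num) (by norm_num) (by norm_num)
      (by omega) (by omega)

theorem T3.large {n : ℕ} (h1 : 106 ≤ n) : T3 n := by
  obtain ⟨c, c', hc, hc', hc1, hc2, hc3⟩ := Cfsg.Agent.H357.NT.two_primes (n := n) (by omega)
  obtain ⟨b, b', hb, hb', hb1, hb2, hb3⟩ := Cfsg.Agent.H357.NT.two_primes (n := 4 * n / 5) (by omega)
  obtain ⟨a, a', ha, ha', ha1, ha2, ha3⟩ := Cfsg.Agent.H357.NT.two_primes (n := 4 * (4 * n / 5) / 5) (by omega)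
  have hbo := Nat.odd_iff.1 (hb.odd_of_ne_two (by omega))
  have hbo' := Nat.odd_iff.1 (hb'.odd_of_ne_two (by omega))
  have hao := Nat.odd_iff.1 (ha.odd_of_ne_two (by omega))
  have hao' := Nat.odd_iff.1 (ha'.odd_of_ne_two (by (clear * - hb2 hb3 ha1 ha2 hbo hbo'; omega)))
  exact T3.of a b c ha hb hc (by (clear * - hb1 ha2 ha3 hao hao'; solve | lia | omega)) (by (clear * - hc1 hb2 hb3 hbo hbo'; solve | lia | omega)) (by (clear * - hb2 hb3 ha1 hbo hbo' hao; solve | lia | omega)) (by omega) (by (clear * - h1 ha1; omega))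

theorem T3.mid {n : ℕ} (h1 : 23 ≤ n) (h2 : n ≤ 25) : T3 n :=
  T3.of 13 17 23 (by norm_num) (by norm_num) (by norm_num) (by norm_num) (by norm_num) (by norm_num)
      (by omega) (by omega)

theorem t3 {n : ℕ} (h : 29 ≤ n ∨ 23 ≤ n ∧ n ≤ 25) : T3 n := by
  rcases h with h | h
  · by_cases h2 : n < 106
    · exact T3.small h h2
    · exact T3.large (by omega)
  · exact T3.mid h.1 h.2

open Equiv Subgroup in
theorem PC.large {n : ℕ} {π : Set ℕ} {L K L' K' : Subgroup (Perm (Fin n))} (h : PC n π L K L' K')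
    (hn : 29 ≤ n ∨ 23 ≤ n ∧ n ≤ 25) : False := by
  obtain ⟨a, b, c, ha, hb, hc, hab, hbc, hcn, hbig, h3⟩ := t3 hn
  exact h.three ha hb hc hab hbc hcn hbig h3

end Cfsg.Agent.H528.PDAlt
end
end

-- part: H528/PDAlt/Main
section
prune_inst 0x300000000000000000000000000000000000000000400102000080000000000002100400000480800000800000000000020000000a008000000000000400020080480c00100000400004000000000000000000000000000000000000000000000
set_option linter.all false
open scoped Cfsg.Agent.FastGrp

-- part: H528/PDAlt/Small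
section
/-!
# Configurations in `S_n`, small `n` (helper528)
-/

set_option autoImplicit false

namespace Cfsg.Agent.H528.PDAlt

open Equiv Equiv.Perm Subgroup Nat

theorem v2f {m : ℕ} (h : m < 64) : (m !).factorization 2 = m / 2 + m / 4 + m / 8 + m / 16 + m / 32 := by
  rw [Nat.factorization_factorial Nat.prime_two (b := 6) (Nat.log_lt_of_lt_pow' (by norm_num) (by omega))]
  simp only [Finset.sum_Ico_succ_top, _root_.Nat.one_le_ofNat, _root_.Finset.sum_Ico_succ_top, _root_.Nat.Ico_succ_singleton, _root_.Finset.sum_singleton, _root_.pow_one, _root_.Nat.reducePow, _root_.Nat.add_left_cancel_iff]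

theorem v3f {m : ℕ} (h : m < 64) : (m !).factorization 3 = m / 3 + m / 9 + m / 27 := by
  rw [Nat.factorization_factorial Nat.prime_three (b := 4) (Nat.log_lt_of_lt_pow' (by norm_num) (by omega))]
  simp only [Finset.sum_Ico_succ_top, _root_.Nat.one_le_ofNat, _root_.Finset.sum_Ico_succ_top, _root_.Nat.Ico_succ_singleton, _root_.Finset.sum_singleton, _root_.pow_one, _root_.Nat.reducePow, _root_.Nat.add_left_cancel_iff]

theorem v5f {m : ℕ} (h : m < 64) : (m !).factorization 5 = m / 5 + m / 25 := by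
  rw [Nat.factorization_factorial Nat.prime_five (b := 3) (Nat.log_lt_of_lt_pow' (by norm_num) (by omega))]
  simp only [Finset.sum_Ico_succ_top, _root_.Nat.one_le_ofNat, _root_.Finset.sum_Ico_succ_top, _root_.Nat.Ico_succ_singleton, _root_.Finset.sum_singleton, _root_.pow_one, _root_.Nat.reducePow, _root_.Nat.add_left_cancel_iff]

theorem fact_dvd3 {n m k : ℕ} (hk : 1 ≤ k) (h : m + 3 * k ≤ n) : m ! * k ! ∣ (n - 3)! := by
  rcases hk.lt_or_eq with h1 | rfl
  · exact (Nat.factorial_mul_factorial_dvd_factorial_add m k).trans (Nat.factorial_dvd_factorial (by omega))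
  · rw [Nat.factorial_one, mul_one]
    exact Nat.factorial_dvd_factorial (by omega)

theorem fact_dvd5 {n m k : ℕ} (hk : 1 ≤ k) (h : m + 5 * k ≤ n) : m ! * k ! ∣ (n - 5)! := by
  rcases hk.lt_or_eq with h1 | rfl
  · exact (Nat.factorial_mul_factorial_dvd_factorial_add m k).trans (Nat.factorial_dvd_factorial (by omega))
  · rw [Nat.factorial_one, mul_one]
    exact Nat.factorial_dvd_factorial (by omega)

theorem sum5 {a b c d e a' b' c' d' e' A B C D E : ℕ} (h1 : a + a' < A) (h2 : b + b' ≤ B) (h3 : c + c' ≤ C)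
    (h4 : d + d' ≤ D) (h5 : e + e' ≤ E) :
    a + b + c + d + e + (a' + b' + c' + d' + e') < A + B + C + D + E := by
  omega

theorem sum5' {v a b c d e a' b' c' d' e' A B C D E : ℕ} (h1 : a + a' + 1 < A) (h2 : b + b' ≤ B) (h3 : c + c' ≤ C)
    (h4 : d + d' ≤ D) (h5 : e + e' ≤ E) (h : v ≤ a + b + c + d + e + (a' + b' + c' + d' + e')) :
    v + 1 < A + B + C + D + E := by
  omega

namespace PC

variable {n : ℕ} {π : Set ℕ} {L K L' K' : Subgroup (Perm (Fin n))}

/-- `K` centralises an element of odd prime order -/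
theorem K3 (h : PC n π L K L' K') (r : ℕ) : (Nat.card K).factorization r ≤ ((n - 3)!).factorization r := by
  obtain ⟨t, ht, htd, -, ht3⟩ := h.exists_prime
  obtain ⟨k, hk1, hk2, hk3, -⟩ := h.cK ht htd
  have h1 : k * 3 ≤ k * t := Nat.mul_le_mul_left k ht3
  exact fact_le (Nat.factorial_ne_zero _) (hk3.trans (fact_dvd3 hk1 (by omega)))

/-- `K` centralises an element of prime order `≥ 5` -/
theorem K5 (h : PC n π L K L' K') {t : ℕ} (ht : t.Prime) (h5 : 5 ≤ t) (htd : t ∣ Nat.card L) (r : ℕ) :
    (Nat.card K).factorization r ≤ ((n - 5)!).factorization r := by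
  obtain ⟨k, hk1, hk2, hk3, -⟩ := h.cK ht htd
  have h1 : k * 5 ≤ k * t := Nat.mul_le_mul_left k h5
  exact fact_le (Nat.factorial_ne_zero _) (hk3.trans (fact_dvd5 hk1 (by omega)))

/-- the `2`-part of the alternating part of `K` -/
theorem KA (h : PC n π L K L' K') (hn : 5 ≤ n) (hn' : n < 64) :
    (Nat.card ↥(K ⊓ alternatingGroup (Fin n))).factorization 2 + 1 < (n !).factorization 2 := by
  obtain ⟨t, ht, htd, -, ht3⟩ := h.exists_prime
  obtain ⟨k, hk1, hk2, -, hk4, hk5⟩ := h.cK ht htd
  have h1 : k * 3 ≤ k * t := Nat.mul_le_mul_left k ht3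
  obtain ⟨m, hm⟩ : ∃ m, m = n - k * t := ⟨_, rfl⟩
  have hm3 : m + 3 * k ≤ n := by omega
  rw [← hm] at hk4 hk5
  have h4 : m / 4 + k / 4 ≤ n / 4 := by clear * - hm3; omega
  have h5 : m / 8 + k / 8 ≤ n / 8 := by clear * - hm3; omega
  have h6 : m / 16 + k / 16 ≤ n / 16 := by clear * - hm3; omega
  have h7 : m / 32 + k / 32 ≤ n / 32 := by clear * - hm3; omega
  by_cases h2 : k * t + 2 ≤ n
  · refine (hk5 h2).trans_lt ?_
    rw [v2f (m := m) (by (clear * - hn hn' hk1 hm hm3; omega)), v2f (m := k) (by omega), v2f (m := n) hn']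
    have h3 : m / 2 + k / 2 < n / 2 := by clear * - hm3 hk1; omega
    exact sum5 h3 h4 h5 h6 h7
  · have h3 := (inf_le_card K 2).trans (hk4 2)
    rw [v2f (m := m) (by (clear * - hn hn' hk1 hm hm3; omega)), v2f (m := k) (by (clear * - hn hn' hk2 h1 h2; omega))] at h3
    rw [v2f (m := n) hn']
    have h8 : m ≤ 1 := by clear * - h2 hm; omega
    have h9 : m / 2 + k / 2 + 1 < n / 2 := by clear * - hm3 h8 hn; omega
    exact sum5' h9 h4 h5 h6 h7 h3

/-- largest prime in `K`, two other big primes, `3 ∈ π` -/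
theorem kill (h : PC n π L K L' K') {a b P : ℕ} (ha : a.Prime) (hb : b.Prime) (hP : P.Prime) (hab : a < b)
    (hbP : b < P) (hPn : P ≤ n) (hbig : n < 2 * a) (h3 : 3 < a) (hPK : P ∣ Nat.card K) (hπ : 3 ∈ π) : False := by
  have hL := h.big_L hP hPK (by omega)
  have key : ∀ r, r.Prime → a ≤ r → r < P → r ∣ Nat.card L' ∨ r ∣ Nat.card K' := by
    intro r hr har hrP
    rcases h.mem_or hr (by omega) (by omega) with (h1 | h1) | h1 | h1
    · have := (hr.dvd_factorial).1 (h1.trans hL)
      omega
    · exact Or.inl h1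
    · exact absurd hπ (h.no_two_K3 hr hP hrP (by omega) (by omega) h1 hPK)
    · exact Or.inr h1
  rcases key a ha le_rfl (by omega) with h1 | h1 <;> rcases key b hb (by omega) hbP with h2 | h2
  · exact h.symm.no_two_L ha hb hab hbig h1 h2
  · exact h.symm.nonAdj ha hb (by omega) h1 h2
  · exact h.symm.nonAdj hb ha (by omega) h2 h1
  · exact h.symm.no_two_K3 ha hb hab h3 hbig h1 h2 hπ

/-- both in the second pair -/
theorem both (h : PC n π L K L' K') {a b : ℕ} (ha : a.Prime) (hb : b.Prime) (hab : a < b)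
    (hbig : n < 2 * a) (h1 : a ∣ Nat.card L' ∨ a ∣ Nat.card K') (h2 : b ∣ Nat.card L' ∨ b ∣ Nat.card K') :
    a ∣ Nat.card K' ∧ b ∣ Nat.card K' := by
  rcases h1 with h1 | h1 <;> rcases h2 with h2 | h2
  · exact absurd (h.symm.no_two_L ha hb hab hbig h1 h2) id
  · exact absurd (h.symm.nonAdj ha hb (by omega) h1 h2) id
  · exact absurd (h.symm.nonAdj hb ha (by omega) h2 h1) id
  · exact ⟨h1, h2⟩

/-- `P ∣ |K|` and `n - P ≤ 2` -/
theorem caseK (h : PC n π L K L' K') {P : ℕ} (hP : P.Prime) (hbig : n < 2 * P) (hg : n ≤ P + 2)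
    (hPK : P ∣ Nat.card K) : False := by
  have hL := h.big_L hP hPK hbig
  obtain ⟨t, ht, htd, -, ht3⟩ := h.exists_prime
  have := (ht.dvd_factorial).1 (htd.trans hL)
  omega

/-- `P ∣ |L|` and `n - P ≤ 1` -/
theorem caseL1 (h : PC n π L K L' K') {P : ℕ} (hP : P.Prime) (hbig : n < 2 * P) (hg : n ≤ P + 1)
    (hn : 5 ≤ n) (hn' : n < 64) (hPL : P ∣ Nat.card L) : False := by
  have hK := (h.big_K hP hPL hbig).1
  have h1 : (n - P)! = 1 := Nat.factorial_eq_one.2 (by omega)
  rw [h1, Nat.dvd_one] at hK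
  have h2 := h.two1
  have h3 := h.symm.KA hn hn'
  rw [hK, Nat.factorization_one, Finsupp.zero_apply] at h2
  omega

/-- `P ∣ |L|` and `n - P = 2` -/
theorem caseL2 (h : PC n π L K L' K') {P : ℕ} (hP : P.Prime) (hbig : n < 2 * P) (hg : n = P + 2)
    (hPL : P ∣ Nat.card L) : (n !).factorization 2 ≤ (Nat.card K').factorization 2 + 1 := by
  have hK := (h.big_K hP hPL hbig).2 (by omega)
  have h1 : n - P = 2 := by omega
  rw [h1, v2f (by norm_num)] at hK
  have h2 := h.two2
  omega

/-- `P ∣ |L|` and `n - P = 3` -/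
theorem caseL3 (h : PC n π L K L' K') {P : ℕ} (hP : P.Prime) (hbig : n < 2 * P) (hg : n = P + 3)
    (hPL : P ∣ Nat.card L) : (n !).factorization 2 ≤ ((n - 3)!).factorization 2 + 1 := by
  have hK := (h.big_K hP hPL hbig).2 (by omega)
  have h1 : n - P = 3 := by omega
  rw [h1, v2f (by norm_num)] at hK
  have h2 := h.two2
  have h3 := h.symm.K3 2
  omega

theorem reduce (h : PC n π L K L' K') {P : ℕ} (hP : P.Prime) (hP2 : P ≠ 2) (hPn : P ≤ n)
    (h1 : ∀ (L K L' K' : Subgroup (Perm (Fin n))), PC n π L K L' K' → P ∣ Nat.card L → False)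
    (h2 : ∀ (L K L' K' : Subgroup (Perm (Fin n))), PC n π L K L' K' → P ∣ Nat.card K → False) : False := by
  rcases h.mem_or hP hP2 hPn with (h3 | h3) | h3 | h3
  · exact h1 _ _ _ _ h h3
  · exact h1 _ _ _ _ h.symm h3
  · exact h2 _ _ _ _ h h3
  · exact h2 _ _ _ _ h.symm h3

theorem g1 (h : PC n π L K L' K') {P : ℕ} (hP : P.Prime) (hP2 : P ≠ 2) (hPn : P ≤ n) (hbig : n < 2 * P)
    (hg : n ≤ P + 1) (hn : 5 ≤ n) (hn' : n < 64) : False :=
  h.reduce hP hP2 hPn (fun _ _ _ _ h' => h'.caseL1 hP hbig hg hn hn')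
    (fun _ _ _ _ h' => h'.caseK hP hbig (by omega))

theorem n9 {L K L' K' : Subgroup (Perm (Fin 9))} (h : PC 9 π L K L' K') : False := by
  have hP : Nat.Prime 7 := by norm_num
  refine h.reduce hP (by omega) (by omega) (fun _ _ _ _ h' hd => ?_)
    (fun _ _ _ _ h' => h'.caseK hP (by omega) (by omega))
  have h1 := h'.caseL2 hP (by omega) (by omega) hd
  have h2 := h'.symm.K3 2
  rw [v2f (by norm_num)] at h1 h2
  omega

theorem n21 {L K L' K' : Subgroup (Perm (Fin 21))} (h : PC 21 π L K L' K') : False := by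
  have hP : Nat.Prime 19 := by norm_num
  refine h.reduce hP (by omega) (by omega) (fun _ _ _ _ h' hd => ?_)
    (fun _ _ _ _ h' => h'.caseK hP (by omega) (by omega))
  have h1 := h'.caseL2 hP (by omega) (by omega) hd
  have h2 := h'.symm.K3 2
  rw [v2f (by norm_num)] at h1 h2
  omega

theorem n15 {L K L' K' : Subgroup (Perm (Fin 15))} (h : PC 15 π L K L' K') : False := by
  have hP : Nat.Prime 13 := by norm_num
  refine h.reduce hP (by omega) (by omega) (fun L K L' K' h' hd => ?_)
    (fun _ _ _ _ h' => h'.caseK hP (by omega) (by omega))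
  have h1 := h'.caseL2 hP (by omega) (by omega) hd
  rw [v2f (by norm_num)] at h1
  by_cases h5 : 5 ∈ π
  · have h2 := h'.numL 5 Nat.prime_five h5
    have h3 := (one_big L hP (by rw [Fintype.card_fin]; omega) hd).resolve_left h'.odd
    rw [Fintype.card_fin] at h3
    have h4 := fact_le (r := 5) (mul_ne_zero (Nat.factorial_ne_zero _) (Nat.factorial_ne_zero _)) h3
    rw [Nat.factorization_mul (Nat.factorial_ne_zero _) (Nat.factorial_ne_zero _), Finsupp.add_apply,
      v5f (by norm_num), v5f (by norm_num)] at h4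
    rw [v5f (by norm_num)] at h2
    have h6 : 5 ∣ Nat.card L' := (fact_pos_iff Nat.prime_five Nat.card_pos.ne').1 (by omega)
    have h7 := h'.symm.K5 Nat.prime_five le_rfl h6 2
    rw [v2f (by norm_num)] at h7
    omega
  · have h2 := h'.numK 5 Nat.prime_five (by norm_num) h5
    have h3 := (h'.big_K hP hd (by omega)).1
    have h4 := fact_le (r := 5) (Nat.factorial_ne_zero _) h3
    have h6 := h'.symm.K3 5
    rw [v5f (by norm_num)] at h2 h4 h6
    omega

/-- `P ∣ |K|` and `n - P = 3` -/
theorem caseK3 (h : PC n π L K L' K') {P : ℕ} (hP : P.Prime) (hbig : n < 2 * P) (hg : n = P + 3)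
    (hPK : P ∣ Nat.card K) : 3 ∣ Nat.card L ∧ 3 ∈ π ∧ Nat.card L ∣ 3 ! := by
  have hL := h.big_L hP hPK hbig
  have h1 : n - P = 3 := by omega
  rw [h1] at hL
  obtain ⟨t, ht, htd, htp, ht3⟩ := h.exists_prime
  have h2 := (ht.dvd_factorial).1 (htd.trans hL)
  obtain rfl : t = 3 := by omega
  exact ⟨htd, htp, hL⟩

theorem n22 {L K L' K' : Subgroup (Perm (Fin 22))} (h : PC 22 π L K L' K') : False := by
  have hP : Nat.Prime 19 := by norm_num
  refine h.reduce hP (by omega) (by omega) (fun _ _ _ _ h' hd => ?_) (fun _ _ _ _ h' hd => ?_)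
  · have h1 := h'.caseL3 hP (by omega) (by omega) hd
    rw [v2f (by norm_num), v2f (by norm_num)] at h1
    omega
  · have h1 := h'.caseK3 hP (by omega) (by omega) hd
    exact h'.kill (a := 13) (b := 17) (by norm_num) (by norm_num) hP (by omega) (by omega) (by omega) (by omega)
      (by omega) hd h1.2.1

theorem n26 {L K L' K' : Subgroup (Perm (Fin 26))} (h : PC 26 π L K L' K') : False := by
  have hP : Nat.Prime 23 := by norm_num
  refine h.reduce hP (by omega) (by omega) (fun _ _ _ _ h' hd => ?_) (fun _ _ _ _ h' hd => ?_)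
  · have h1 := h'.caseL3 hP (by omega) (by omega) hd
    rw [v2f (by norm_num), v2f (by norm_num)] at h1
    omega
  · have h1 := h'.caseK3 hP (by omega) (by omega) hd
    exact h'.kill (a := 17) (b := 19) (by norm_num) (by norm_num) hP (by omega) (by omega) (by omega) (by omega)
      (by omega) hd h1.2.1

theorem n16 {L K L' K' : Subgroup (Perm (Fin 16))} (h : PC 16 π L K L' K') : False := by
  have hP : Nat.Prime 13 := by norm_num
  have h11 : Nat.Prime 11 := by norm_num
  refine h.reduce hP (by omega) (by omega) (fun _ _ _ _ h' hd => ?_) (fun L K L' K' h' hd => ?_)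
  · have h1 := h'.caseL3 hP (by omega) (by omega) hd
    rw [v2f (by norm_num), v2f (by norm_num)] at h1
    omega
  · obtain ⟨h1, h2, h3⟩ := h'.caseK3 hP (by omega) (by omega) hd
    rcases h'.mem_or h11 (by omega) (by omega) with (h4 | h4) | h4 | h4
    · have := (h11.dvd_factorial).1 (h4.trans h3)
      omega
    · have h5 := fact_le (r := 2) (Nat.factorial_ne_zero _) (h'.symm.big_K h11 h4 (by omega)).1
      have h6 := h'.K3 2
      have h7 := inf_le_card K 2
      have h8 := h'.two2
      rw [v2f (by norm_num)] at h5 h6 h8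
      omega
    · exact h'.no_two_K3 h11 hP (by omega) (by omega) (by omega) h4 hd h2
    · have h5 := fact_le (r := 3) (Nat.factorial_ne_zero _) (h'.symm.big_L h11 h4 (by omega))
      have h6 := fact_le (r := 3) (Nat.factorial_ne_zero _) h3
      have h7 := h'.numL 3 Nat.prime_three h2
      rw [v3f (by norm_num)] at h5 h6 h7
      omega

theorem n10 {L K L' K' : Subgroup (Perm (Fin 10))} (h : PC 10 π L K L' K') : False := by
  have hP : Nat.Prime 7 := by norm_num
  have h5p := Nat.prime_five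
  refine h.reduce hP (by omega) (by omega) (fun _ _ _ _ h' hd => ?_) (fun L K L' K' h' hd => ?_)
  · have h1 := h'.caseL3 hP (by omega) (by omega) hd
    rw [v2f (by norm_num), v2f (by norm_num)] at h1
    omega
  · obtain ⟨h1, h2, h3⟩ := h'.caseK3 hP (by omega) (by omega) hd
    have h4 := fact_le (r := 3) (Nat.factorial_ne_zero _) h3
    have h5 := h'.numL 3 Nat.prime_three h2
    rw [v3f (by norm_num)] at h4 h5
    obtain ⟨k, hk1, hk2, -, hk4, hk5⟩ := h'.cK Nat.prime_three h1
    have h6 : (Nat.card ↥(K ⊓ alternatingGroup (Fin 10))).factorization 2 ≤ 3 := by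
      have hk : k = 1 ∨ k = 2 ∨ k = 3 := by clear * - hk1 hk2; omega
      rcases hk with rfl | rfl | rfl
      · have h8 := hk5 (by norm_num)
        rw [v2f (m := 10 - 1 * 3) (by norm_num), v2f (m := 1) (by norm_num)] at h8
        clear * - h8
        omega
      · have h8 := hk5 (by norm_num)
        rw [v2f (m := 10 - 2 * 3) (by norm_num), v2f (m := 2) (by norm_num)] at h8
        clear * - h8
        omega
      · have h8 := (inf_le_card K 2).trans (hk4 2)
        rw [v2f (m := 10 - 3 * 3) (by norm_num), v2f (m := 3) (by norm_num)] at h8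
        clear * - h8
        omega
    have h7 := h'.two2
    rw [v2f (by norm_num)] at h7
    by_cases h5π : 5 ∈ π
    · have h8 := h'.numL 5 h5p h5π
      have h9 := fact_le (r := 5) (Nat.factorial_ne_zero _) h3
      rw [v5f (by norm_num)] at h8 h9
      have h10 : 5 ∣ Nat.card L' := (fact_pos_iff Nat.prime_five Nat.card_pos.ne').1 (by omega)
      have h11 := h'.symm.K5 h5p le_rfl h10 2
      rw [v2f (by norm_num)] at h11
      omega
    · have h8 := h'.numK 5 h5p (by norm_num) h5π
      have h9 := h'.K3 5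
      rw [v5f (by norm_num)] at h8 h9
      have h10 : 5 ∣ Nat.card K' := (fact_pos_iff Nat.prime_five Nat.card_pos.ne').1 (by omega)
      obtain ⟨l, hl1, hl2, -, hl4⟩ := h'.symm.cL h5p h10
      have h11 := hl4 3
      have hl : l = 1 ∨ l = 2 := by clear * - hl1 hl2; omega
      rcases hl with rfl | rfl
      · rw [v3f (m := 10 - 1 * 5) (by norm_num), v3f (m := 1) (by norm_num)] at h11
        clear * - h11 h4 h5
        omega
      · rw [v3f (m := 10 - 2 * 5) (by norm_num), v3f (m := 2) (by norm_num)] at h11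
        clear * - h11 h4 h5
        omega

theorem n27 (hn : n = 27 ∨ n = 28) (h : PC n π L K L' K') : False := by
  have hP : Nat.Prime 23 := by norm_num
  have h17 : Nat.Prime 17 := by norm_num
  have h19 : Nat.Prime 19 := by norm_num
  refine h.reduce hP (by omega) (by omega) (fun L K L' K' h' hd => ?_) (fun L K L' K' h' hd => ?_)
  · have key : ∀ r, r.Prime → 17 ≤ r → r < 23 → r ∣ Nat.card L' ∨ r ∣ Nat.card K' := by
      intro r hr har hrP
      rcases h'.mem_or hr (by omega) (by omega) with (h1 | h1) | h1 | h1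
      · exact absurd (h'.no_two_L hr hP hrP (by omega) h1 hd) id
      · exact Or.inl h1
      · exact absurd (h'.nonAdj hP hr (by omega) hd h1) id
      · exact Or.inr h1
    obtain ⟨h1, h2⟩ := h'.both h17 h19 (by omega) (by omega) (key 17 h17 (by omega) (by omega))
      (key 19 h19 (by omega) (by omega))
    have h3 := h'.symm.no_two_K3 h17 h19 (by omega) (by omega) (by omega) h1 h2
    obtain ⟨t, ht, htd, htp, ht3⟩ := h'.symm.exists_prime
    have ht5 : 5 ≤ t := by
      by_contra h0
      have h4 : t = 3 ∨ t = 4 := by omega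
      rcases h4 with rfl | rfl
      · exact h3 htp
      · exact absurd ht (by norm_num)
    have h4 := h'.symm.K5 ht ht5 htd 2
    have h5 := (h'.big_K hP hd (by omega)).2 (by omega)
    have h6 := h'.two2
    rw [v2f (by (clear * - hn; omega))] at h4 h5 h6
    rcases hn with rfl | rfl <;> omega
  · have hL := h'.big_L hP hd (by omega)
    have key : ∀ r, r.Prime → 17 ≤ r → r ≤ 20 → r ∣ Nat.card L' ∨ r ∣ Nat.card K' := by
      intro r hr har hrP
      rcases h'.mem_or hr (by omega) (by omega) with (h1 | h1) | h1 | h1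
      · have := (hr.dvd_factorial).1 (h1.trans hL)
        omega
      · exact Or.inl h1
      · exact absurd (h'.no_two_K hr hP (by omega) (by omega) h1 hd) id
      · exact Or.inr h1
    obtain ⟨h1, h2⟩ := h'.both h17 h19 (by omega) (by omega) (key 17 h17 (by omega) (by omega))
      (key 19 h19 (by omega) (by omega))
    have h3 := h'.symm.big_L h19 h2 (by omega)
    obtain ⟨t, ht, htd, htp, ht3⟩ := h'.exists_prime
    have ht5 : t ≤ 5 := by
      have := (ht.dvd_factorial).1 (htd.trans hL)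
      omega
    have h4 := h'.numL t ht htp
    have h5 := fact_le (r := t) (Nat.factorial_ne_zero _) hL
    have h6 := fact_le (r := t) (Nat.factorial_ne_zero _) h3
    have h7 : t = 3 ∨ t = 4 ∨ t = 5 := by omega
    rcases h7 with rfl | rfl | rfl
    · rw [v3f (by (clear * - hn; omega))] at h4 h5 h6
      rcases hn with rfl | rfl <;> omega
    · exact absurd ht (by norm_num)
    · rw [v5f (by omega)] at h4 h5 h6
      rcases hn with rfl | rfl <;> omega

/-- **no configurations in `S_n`, `n ≥ 5`, `n ≠ 6`** -/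
theorem false (h : PC n π L K L' K') (hn : 5 ≤ n) (hn6 : n ≠ 6) : False := by
  by_cases h29 : 29 ≤ n
  · exact h.large (Or.inl h29)
  have h28 : n ≤ 28 := by omega
  have p5 : Nat.Prime 5 := by norm_num
  have p7 : Nat.Prime 7 := by norm_num
  have p11 : Nat.Prime 11 := by norm_num
  have p13 : Nat.Prime 13 := by norm_num
  have p17 : Nat.Prime 17 := by norm_num
  have p19 : Nat.Prime 19 := by norm_num
  interval_cases n
  · exact h.g1 p5 (by norm_num) (by norm_num) (by norm_num) (by norm_num) (by norm_num) (by norm_num)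
  · exact hn6 rfl
  · exact h.g1 p7 (by norm_num) (by norm_num) (by norm_num) (by norm_num) (by norm_num) (by norm_num)
  · exact h.g1 p7 (by norm_num) (by norm_num) (by norm_num) (by norm_num) (by norm_num) (by norm_num)
  · exact h.n9
  · exact h.n10
  · exact h.g1 p11 (by norm_num) (by norm_num) (by norm_num) (by norm_num) (by norm_num) (by norm_num)
  · exact h.g1 p11 (by norm_num) (by norm_num) (by norm_num) (by norm_num) (by norm_num) (by norm_num)
  · exact h.g1 p13 (by norm_num) (by norm_num) (by norm_num) (by norm_num) (by norm_num) (by norm_num)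
  · exact h.g1 p13 (by norm_num) (by norm_num) (by norm_num) (by norm_num) (by norm_num) (by norm_num)
  · exact h.n15
  · exact h.n16
  · exact h.g1 p17 (by norm_num) (by norm_num) (by norm_num) (by norm_num) (by norm_num) (by norm_num)
  · exact h.g1 p17 (by norm_num) (by norm_num) (by norm_num) (by norm_num) (by norm_num) (by norm_num)
  · exact h.g1 p19 (by norm_num) (by norm_num) (by norm_num) (by norm_num) (by norm_num) (by norm_num)
  · exact h.g1 p19 (by norm_num) (by norm_num) (by norm_num) (by norm_num) (by norm_num) (by norm_num)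
  · exact h.n21
  · exact h.n22
  · exact h.large (Or.inr (by norm_num))
  · exact h.large (Or.inr (by norm_num))
  · exact h.large (Or.inr (by norm_num))
  · exact h.n26
  · exact n27 (Or.inl rfl) h
  · exact n27 (Or.inr rfl) h

end PC

end Cfsg.Agent.H528.PDAlt
end

-- part: H528/PDAlt/Main
section
/-!
# S4246: the row for the alternating groups (helper528)

`row_alt` : the alternating groups of degree at least five.
-/

set_option autoImplicit false

namespace Cfsg.Agent.H528.PDAlt

open Equiv Equiv.Perm Subgroup Nat Cfsg.Agent.H160.PD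

/-! ### the degrees different from six -/

section transfer

variable {n : ℕ}

theorem two_mul_card (hn : 2 ≤ n) : 2 * Nat.card (alternatingGroup (Fin n)) = n ! := by
  have : Nontrivial (Fin n) := Fin.nontrivial_iff_two_le.2 hn
  have h := two_mul_nat_card_alternatingGroup (α := Fin n)
  rwa [Nat.card_perm, Nat.card_eq_fintype_card (α := Fin n), Fintype.card_fin] at h

theorem fact_alt (hn : 2 ≤ n) {r : ℕ} (hr2 : r ≠ 2) :
    (n !).factorization r = (Nat.card (alternatingGroup (Fin n))).factorization r := by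
  rw [← two_mul_card hn, Nat.factorization_mul two_ne_zero Nat.card_pos.ne', Finsupp.add_apply,
    Nat.Prime.factorization Nat.prime_two, Finsupp.single_apply, if_neg hr2.symm, zero_add]

theorem fact_alt_two (hn : 2 ≤ n) :
    (n !).factorization 2 = (Nat.card (alternatingGroup (Fin n))).factorization 2 + 1 := by
  rw [← two_mul_card hn, Nat.factorization_mul two_ne_zero Nat.card_pos.ne', Finsupp.add_apply,
    Nat.Prime.factorization_self Nat.prime_two, add_comm]

/-- the automorphisms as permutations -/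
noncomputable def eqv (hn : 5 ≤ n) (h6 : n ≠ 6) : Perm (Fin n) ≃* MulAut (alternatingGroup (Fin n)) :=
  MulEquiv.ofBijective _ (S2119.result n (by omega) h6)

theorem eqv_coe (hn : 5 ≤ n) (h6 : n ≠ 6) (s : alternatingGroup (Fin n)) :
    eqv hn h6 (s : Perm (Fin n)) = MulAut.conj s := by
  refine MulEquiv.ext fun x => Subtype.ext ?_
  change ((MulAut.conjNormal (s : Perm (Fin n)) : MulAut (alternatingGroup (Fin n))) x : Perm (Fin n)) = _
  rw [MulAut.conjNormal_apply, MulAut.conj_apply]
  rfl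

theorem card_comap (hn : 5 ≤ n) (h6 : n ≠ 6) (H : Subgroup (MulAut (alternatingGroup (Fin n)))) :
    Nat.card (H.comap (eqv hn h6).toMonoidHom) = Nat.card H := by
  have h1 := Subgroup.map_comap_eq_self_of_surjective (f := (eqv hn h6).toMonoidHom) (eqv hn h6).surjective H
  conv_rhs => rw [← h1]
  exact Nat.card_congr ((H.comap (eqv hn h6).toMonoidHom).equivMapOfInjective _ (eqv hn h6).injective).toEquiv

theorem card_tr' (hn : 5 ≤ n) (h6 : n ≠ 6) (H : Subgroup (MulAut (alternatingGroup (Fin n)))) :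
    Nat.card (tr H) = Nat.card ↥(H.comap (eqv hn h6).toMonoidHom ⊓ alternatingGroup (Fin n)) := by
  have h1 : (tr H).map (alternatingGroup (Fin n)).subtype =
      H.comap (eqv hn h6).toMonoidHom ⊓ alternatingGroup (Fin n) := by
    ext x
    rw [Subgroup.mem_map, Subgroup.mem_inf, Subgroup.mem_comap]
    constructor
    · rintro ⟨s, hs, rfl⟩
      refine ⟨?_, s.2⟩
      change eqv hn h6 (s : Perm (Fin n)) ∈ H
      rw [eqv_coe]
      exact hs
    · rintro ⟨h1, h2⟩
      refine ⟨⟨x, h2⟩, ?_, rfl⟩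
      rw [mem_tr, ← eqv_coe hn h6]
      exact h1
  rw [← h1]
  exact Nat.card_congr ((tr H).equivMapOfInjective _ (Subgroup.subtype_injective _)).toEquiv

theorem row_ne_six (hn : 5 ≤ n) (h6 : n ≠ 6) : Row (alternatingGroup (Fin n)) := by
  intro π L K L' K' h
  have hc := card_comap hn h6
  have ht := card_tr' hn h6
  have hle : ∀ (H : Subgroup (MulAut (alternatingGroup (Fin n)))) (r : ℕ),
      (Nat.card (tr H)).factorization r ≤ (Nat.card H).factorization r := by
    intro H r
    rw [ht, ← hc H]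
    exact inf_le_card _ r
  have hne : ∀ H : Subgroup (MulAut (alternatingGroup (Fin n))), H ≠ ⊥ → H.comap (eqv hn h6).toMonoidHom ≠ ⊥ := by
    intro H hH h0
    apply hH
    rw [← Subgroup.card_eq_one] at h0 ⊢
    rwa [hc] at h0
  have hcm : ∀ A B : Subgroup (MulAut (alternatingGroup (Fin n))), (∀ a ∈ A, ∀ b ∈ B, a * b = b * a) →
      ∀ a ∈ A.comap (eqv hn h6).toMonoidHom, ∀ b ∈ B.comap (eqv hn h6).toMonoidHom, a * b = b * a := by
    intro A B hAB a ha b hb
    apply (eqv hn h6).injective
    rw [map_mul, map_mul]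
    exact hAB _ ha _ hb
  have hpc : PC n π (L.comap (eqv hn h6).toMonoidHom) (K.comap (eqv hn h6).toMonoidHom)
      (L'.comap (eqv hn h6).toMonoidHom) (K'.comap (eqv hn h6).toMonoidHom) := by
    refine ⟨h.two, ?_, ?_, ?_, ?_, hcm _ _ h.comm, hcm _ _ h.comm', hne _ h.ne, hne _ h.ne', ?_, ?_, ?_, ?_⟩
    · rw [hc]; exact h.piL
    · rw [hc]; exact h.piL'
    · rw [hc]; exact h.piK
    · rw [hc]; exact h.piK'
    · intro r hr hp
      have hr2 : r ≠ 2 := fun h0 => h.two (h0 ▸ hp)
      rw [hc, hc, fact_alt (by omega) hr2]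
      exact (h.numL r hr hp).trans (Nat.add_le_add_left (hle _ _) _)
    · intro r hr hr2 hp
      rw [hc, hc, fact_alt (by omega) hr2]
      exact (h.numK r hr hp).trans (Nat.add_le_add_left (hle _ _) _)
    · rw [hc, ← ht, fact_alt_two (by omega)]
      exact Nat.add_le_add_right (h.numK 2 Nat.prime_two h.two) 1
    · rw [hc, ← ht, fact_alt_two (by omega)]
      exact Nat.add_le_add_right (h.numK' 2 Nat.prime_two h.two) 1
  exact hpc.false hn h6

end transfer

/-! ### degree six -/

section six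

theorem center6 : center (alternatingGroup (Fin 6)) = ⊥ :=
  alternatingGroup.center_eq_bot (by rw [Nat.card_eq_fintype_card, Fintype.card_fin]; norm_num)

theorem card6 : Nat.card (alternatingGroup (Fin 6)) = 360 := by
  have h := two_mul_card (n := 6) (by norm_num)
  have h1 : (6 : ℕ)! = 720 := rfl
  omega

open Cfsg.Agent.LFourA.AltPsiAut in
theorem out_le : out (alternatingGroup (Fin 6)) ≤ 4 := by
  set J : Subgroup (MulAut (alternatingGroup (Fin 6))) :=
    (MulAut.conjNormal : Perm (Fin 6) →* MulAut (alternatingGroup (Fin 6))).range with hJ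
  have h1 : NE ≤ J := by
    intro α hα
    obtain ⟨s, hs⟩ := LFourA.AltPsiAut.exists_perm hα
    refine ⟨s, MulEquiv.ext fun x => Subtype.ext ?_⟩
    rw [MulAut.conjNormal_apply, hs]
  have h2 : NE.index ≤ 2 := by
    by_cases h : ∀ α, α ∈ NE
    · have : NE = ⊤ := by rw [eq_top_iff]; exact fun α _ => h α
      rw [this, Subgroup.index_top]
      norm_num
    · push Not at h
      obtain ⟨a, ha⟩ := h
      have : NE.index = 2 := by
        rw [Subgroup.index_eq_two_iff']
        refine ⟨a, fun b => ?_⟩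
        by_cases hb : b ∈ NE
        · refine Or.inr ⟨hb, fun h3 => ha ?_⟩
          have := NE.mul_mem h3 (NE.inv_mem hb)
          rwa [mul_inv_cancel_right] at this
        · refine Or.inl ⟨?_, hb⟩
          have := inv_mul_mem (α := a⁻¹) (β := b) (fun h3 => ha (by have := NE.inv_mem h3; rwa [inv_inv] at this)) hb
          rwa [inv_inv] at this
      exact this.le
  have h3 : J.index ≤ 2 := (Nat.le_of_dvd (Nat.pos_of_ne_zero Subgroup.index_ne_zero_of_finite)
    (Subgroup.index_dvd_of_le h1)).trans h2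
  have h4 : Nat.card J ≤ 720 := by
    have h5 := Nat.le_of_dvd Nat.card_pos (Subgroup.card_range_dvd
      (MulAut.conjNormal : Perm (Fin 6) →* MulAut (alternatingGroup (Fin 6))))
    rw [Nat.card_perm, Nat.card_eq_fintype_card (α := Fin 6), Fintype.card_fin] at h5
    exact h5
  have h6 : Nat.card (MulAut.conj : alternatingGroup (Fin 6) →* MulAut (alternatingGroup (Fin 6))).range = 360 := by
    rw [← card6]
    exact (Nat.card_congr (MonoidHom.ofInjective (conj_injective center6)).toEquiv).symm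
  have h7 := Subgroup.card_mul_index J
  have h8 := Subgroup.card_mul_index (MulAut.conj : alternatingGroup (Fin 6) →* MulAut (alternatingGroup (Fin 6))).range
  rw [h6, ← h7] at h8
  have h9 : Nat.card J * J.index ≤ 720 * 2 := Nat.mul_le_mul h4 h3
  unfold out
  omega

/-- centralisers of elements of odd prime order have odd order -/
theorem cent6 {x : alternatingGroup (Fin 6)} (hx : (orderOf x).Prime) (h2 : orderOf x ≠ 2) :
    ¬ 2 ∣ Nat.card (centralizer ({x} : Set (alternatingGroup (Fin 6)))) := by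
  intro hd
  obtain ⟨z, hz, hzo⟩ := exists_order Nat.prime_two hd
  rw [mem_centralizer_singleton_iff] at hz
  have hco : (orderOf x).Coprime (orderOf z) := by
    rw [hzo]
    exact (Nat.coprime_primes hx Nat.prime_two).2 h2
  have h1 := (show Commute x z from hz.symm).orderOf_mul_eq_mul_orderOf_of_coprime hco
  rw [hzo] at h1
  have h3 := Cfsg.Agent.H365.NseAlt.or6 (x * z)
  have h4 := hx.two_le
  rw [h1] at h3
  simp only [List.mem_cons, List.not_mem_nil, or_false] at h3
  omega

/-- centralisers of elements of order five -/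
theorem cent6_five {x : alternatingGroup (Fin 6)} (hx : orderOf x = 5) :
    Nat.card (centralizer ({x} : Set (alternatingGroup (Fin 6)))) ∣ 5 := by
  have hx' : orderOf (x : Perm (Fin 6)) = 5 := by rw [Subgroup.orderOf_coe, hx]
  obtain ⟨k, hk1, hk2, hk3⟩ := card_cent Nat.prime_five hx'
  have hk : k = 1 := by
    have := (x : Perm (Fin 6)).support.card_le_univ
    rw [Fintype.card_fin] at this
    omega
  subst hk
  rw [Fintype.card_fin] at hk3
  have h1 : (6 - 1 * 5)! * 5 ^ 1 * 1 ! = 5 := rfl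
  rw [h1] at hk3
  have h2 : (centralizer ({x} : Set (alternatingGroup (Fin 6)))).map (alternatingGroup (Fin 6)).subtype ≤
      centralizer ({(x : Perm (Fin 6))} : Set (Perm (Fin 6))) := by
    rintro _ ⟨y, hy, rfl⟩
    rw [mem_centralizer_singleton_iff]
    exact congrArg Subtype.val (mem_centralizer_singleton_iff.1 hy)
  have h3 := card_dvd_of_le h2
  rw [hk3] at h3
  rwa [Nat.card_congr ((centralizer ({x} : Set (alternatingGroup (Fin 6)))).equivMapOfInjective _
    (Subgroup.subtype_injective (alternatingGroup (Fin 6)))).toEquiv]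

theorem out_two : (out (alternatingGroup (Fin 6))).factorization 2 ≤ 2 := by
  have h1 := Nat.ordProj_dvd (out (alternatingGroup (Fin 6))) 2
  have h2 := (Nat.le_of_dvd (Nat.pos_of_ne_zero out_ne_zero) h1).trans out_le
  by_contra h3
  have h4 := Nat.pow_le_pow_right (n := 2) two_pos (show 3 ≤ (out (alternatingGroup (Fin 6))).factorization 2 by omega)
  omega

theorem out_five : (out (alternatingGroup (Fin 6))).factorization 5 = 0 := by
  apply Nat.factorization_eq_zero_of_not_dvd
  intro h
  have h1 := (Nat.le_of_dvd (Nat.pos_of_ne_zero out_ne_zero) h).trans out_le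
  omega

theorem v_five : v 5 (alternatingGroup (Fin 6)) = 1 := by
  unfold v
  rw [← fact_alt (by norm_num) (by norm_num), v5f (by norm_num)]

theorem v_two : v 2 (alternatingGroup (Fin 6)) = 3 := by
  have h := fact_alt_two (n := 6) (by norm_num)
  rw [v2f (by norm_num)] at h
  unfold v
  omega

/-- an inner element of `L` -/
theorem exists_inner {π : Set ℕ} {L K L' K' : Subgroup (MulAut (alternatingGroup (Fin 6)))} (h : Cfg π L K L' K') :
    ∃ y ∈ tr L, (orderOf y).Prime ∧ orderOf y ≠ 2 := by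
  obtain ⟨b, hb, t, ht, -, ht2, hbo⟩ := h.exists_prime
  obtain ⟨y, rfl⟩ := Cfsg.Agent.H570.AltBad.conj_of_odd (n := 6) (by norm_num) (ht.odd_of_ne_two ht2)
    (by rw [← hbo]; exact pow_orderOf_eq_one b)
  have h1 : orderOf y = t := by rw [← hbo, orderOf_injective _ (conj_injective center6)]
  exact ⟨y, hb, by rwa [h1], by rwa [h1]⟩

theorem caseL {π : Set ℕ} {L K L' K' : Subgroup (MulAut (alternatingGroup (Fin 6)))} (h : Cfg π L K L' K')
    (hπ : 5 ∈ π) {x : alternatingGroup (Fin 6)} (hx : x ∈ tr L) (hxo : orderOf x = 5) : False := by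
  have h1 := (card_dvd_of_le (h.trK_le_centralizer center6 hx)).trans (cent6_five hxo)
  have h2 : Nat.card (tr K) = 1 := by
    rcases (Nat.dvd_prime Nat.prime_five).1 h1 with h3 | h3
    · exact h3
    · exact absurd hπ (h.piK 5 Nat.prime_five (by
        have := card_tr_dvd center6 K
        rwa [h3] at this))
  have h3 := v_le center6 K 2
  have h4 := out_two
  have h5 := h.numK 2 Nat.prime_two h.two
  obtain ⟨y, hy, hy1, hy2⟩ := exists_inner h.symm
  have h6 : v 2 (tr K') = 0 := by
    apply v_eq_zero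
    intro h7
    exact cent6 hy1 hy2 (h7.trans (card_dvd_of_le (h.symm.trK_le_centralizer center6 hy)))
  have h7 := v_two
  unfold v at h3 h6 h7
  rw [h2, Nat.factorization_one, Finsupp.zero_apply] at h3
  omega

theorem caseK {π : Set ℕ} {L K L' K' : Subgroup (MulAut (alternatingGroup (Fin 6)))} (h : Cfg π L K L' K')
    (hπ : 5 ∉ π) {x : alternatingGroup (Fin 6)} (hx : x ∈ tr K) (hxo : orderOf x = 5) : False := by
  have h1 := (card_dvd_of_le (h.trL_le_centralizer center6 hx)).trans (cent6_five hxo)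
  have h2 : Nat.card (tr L) = 1 := by
    rcases (Nat.dvd_prime Nat.prime_five).1 h1 with h3 | h3
    · exact h3
    · exact absurd (h.piL 5 Nat.prime_five (by
        have := card_tr_dvd center6 L
        rwa [h3] at this)) hπ
  obtain ⟨y, hy, hy1, hy2⟩ := exists_inner h
  have h3 := order_dvd hy
  rw [h2, Nat.dvd_one] at h3
  rw [h3] at hy1
  exact Nat.not_prime_one hy1

theorem row_six : Row (alternatingGroup (Fin 6)) := by
  intro π L K L' K' h
  have h1 : (out (alternatingGroup (Fin 6))).factorization 5 < v 5 (alternatingGroup (Fin 6)) := by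
    rw [out_five, v_five]
    exact one_pos
  by_cases hπ : 5 ∈ π
  · rcases h.mem_L_or center6 Nat.prime_five hπ h1 with ⟨x, hx, hxo⟩ | ⟨x, hx, hxo⟩
    · exact caseL h hπ hx hxo
    · exact caseL h.symm hπ hx hxo
  · rcases h.mem_K_or center6 Nat.prime_five hπ h1 with ⟨x, hx, hxo⟩ | ⟨x, hx, hxo⟩
    · exact caseK h hπ hx hxo
    · exact caseK h.symm hπ hx hxo

end six

/-- **S4246: the row for the alternating groups.** -/
theorem row_alt (K : Type*) [Group K] (h : Cfsg.IsAlternating K) : Cfsg.Agent.H160.PD.Row K := by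
  obtain ⟨n, hn, ⟨e⟩⟩ := h
  by_cases h6 : n = 6
  · subst h6
    exact Row.congr e row_six
  · exact Row.congr e (row_ne_six hn h6)

end Cfsg.Agent.H528.PDAlt
end
end
end
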